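import Cfsg.Agent.S5274
import Cfsg.Agent.Lib.Fusion.Group

/-!
If every 2-element of a finite group centralizes a Sylow 2-subgroup, these are abelian.
-/

set_option autoImplicit false

open Cfsg

namespace CfsgLib.TwoCentral

variable {G : Type*} [Group G] [Finite G]

theorem isMulCommutative_sylow (P : Sylow 2 G)
    (h : ∀ x : G, (∃ k : ℕ, orderOf x = 2 ^ k) →
      ∃ Q : Sylow 2 G, (Q : Subgroup G) ≤ Subgroup.centralizer ({x} : Set G)) :
    IsMulCommutative (P : Subgroup G) := by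
  haveI : Fact (Nat.Prime 2) := ⟨Nat.prime_two⟩
  refine Cfsg.Agent.S5274.result P.2 (groupFusionSystem (P : Subgroup G))
    (CfsgLib.Fusion.groupFusionSystem_isSaturated P) fun x hx => ?_
  have hx' : ∃ k : ℕ, orderOf x = 2 ^ k := by
    obtain ⟨k, hk⟩ := (IsPGroup.iff_orderOf.mp P.2) ⟨x, hx⟩
    exact ⟨k, by rw [← hk, Subgroup.orderOf_mk]⟩
  obtain ⟨Q, hQ⟩ := h x hx'
  have hxQ : x ∈ (Q : Subgroup G) := by
    have hc : Subgroup.zpowers x ≤ Subgroup.normalizer ((Q : Subgroup G) : Set G) :=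
      (Subgroup.zpowers_le).mpr (Subgroup.centralizer_le_normalizer _
        (Subgroup.mem_centralizer_iff.mpr fun q hq => Subgroup.mem_centralizer_singleton_iff.mp (hQ hq)))
    have hp : IsPGroup 2 ↥(Subgroup.zpowers x) := by
      obtain ⟨k, hk⟩ := hx'
      exact IsPGroup.of_card (n := k) (by rw [Nat.card_zpowers, hk])
    have h1 : IsPGroup 2 ↥(Subgroup.zpowers x ⊔ (Q : Subgroup G)) :=
      hp.to_sup_of_normal_right' Q.2 hc
    rw [← Q.3 h1 le_sup_right]
    exact Subgroup.mem_sup_left (Subgroup.mem_zpowers x)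
  obtain ⟨g, hg⟩ := MulAction.exists_smul_eq G Q P
  have hmem : ∀ q ∈ (Q : Subgroup G), g * q * g⁻¹ ∈ (P : Subgroup G) := fun q hq => by
    rw [← hg]
    exact ⟨q, hq, rfl⟩
  refine ⟨g * x * g⁻¹, ⟨hmem x hxQ, Subgroup.mem_centralizer_iff.mpr fun s hs => ?_⟩, ?_⟩
  · obtain ⟨q, hq, rfl⟩ : ∃ q ∈ (Q : Subgroup G), g * q * g⁻¹ = s := by
      have hs' : s ∈ ((g • Q : Sylow 2 G) : Subgroup G) := by rw [hg]; exact hs
      obtain ⟨q, hq, hqs⟩ := hs'
      exact ⟨q, hq, hqs⟩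
    have hcomm : q * x = x * q := Subgroup.mem_centralizer_singleton_iff.mp (hQ hq)
    calc g * q * g⁻¹ * (g * x * g⁻¹) = g * (q * x) * g⁻¹ := by group
      _ = g * x * g⁻¹ * (g * q * g⁻¹) := by rw [hcomm]; group
  · refine ⟨(MulAut.conj g).toMonoidHom.comp (Subgroup.zpowers x).subtype,
      ⟨(Subgroup.zpowers_le).mpr hx, fun y => ?_, g, fun y => rfl⟩, rfl⟩
    have hy : (y : G) ∈ (Q : Subgroup G) := (Subgroup.zpowers_le).mpr hxQ y.2
    exact hmem y hy

end CfsgLib.TwoCentral
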